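import Groth.Agent.ConstTorsor.Main
import Groth.Agent.SGA7.Ext
import Groth.Agent.AlgGrp2.AffinePts
import Groth.Prelude.Def_NonAbH2

/-!
# Extensions by constant groups over geometrically unibranch bases: sections
-/

set_option autoImplicit false
set_option backward.isDefEq.respectTransparency false
set_option synthInstance.maxHeartbeats 200000
set_option maxHeartbeats 800000
attribute [local instance 10000] CategoryTheory.Hom.group
universe u

open CategoryTheory CategoryTheory.Limits MonoidalCategory CartesianMonoidalCategory MonObj AlgebraicGeometry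

namespace Groth.ConstTorsor

open Groth.SGA7 Groth.AlgGrp2

/-- Fields are geometrically unibranch. -/
theorem isGeomUnibranch_of_isField (A : Type u) [CommRing A] [IsLocalRing A] (hA : IsField A) :
    CAlg2.IsGeomUnibranch A := by
  letI := hA.toField
  have h0 : nilradical A = ⊥ := nilradical_eq_zero A
  have hred : IsField (CAlg2.red A) := by
    have hb : Function.Bijective (Ideal.Quotient.mk (nilradical A)) :=
      ⟨by rw [RingHom.injective_iff_ker_eq_bot, Ideal.mk_ker, h0], Ideal.Quotient.mk_surjective⟩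
    exact (RingEquiv.ofBijective _ hb).symm.toMulEquiv.isField hA
  have : IsDomain (CAlg2.red A) := hred.isDomain
  have hfr : Function.Surjective (algebraMap (CAlg2.red A) (FractionRing (CAlg2.red A))) := fun x => by
    obtain ⟨a, b, hb, rfl⟩ := IsFractionRing.div_surjective (A := CAlg2.red A) x
    obtain ⟨c, hc⟩ := hred.mul_inv_cancel (nonZeroDivisors.ne_zero hb)
    refine ⟨a * c, ?_⟩
    have h1 : algebraMap (CAlg2.red A) (FractionRing (CAlg2.red A)) b * algebraMap _ _ c = 1 := by
      rw [← map_mul, hc, map_one]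
    rw [map_mul, div_eq_mul_inv, ← eq_inv_of_mul_eq_one_right h1]
  have hs : Function.Surjective (algebraMap (CAlg2.red A) (CAlg2.normRed A)) := fun x => by
    obtain ⟨a, ha⟩ := hfr x.1
    exact ⟨a, Subtype.ext ha⟩
  have : Nontrivial (CAlg2.normRed A) := inferInstance
  refine ⟨⟨inferInstance, IsLocalRing.of_surjective' _ hs⟩, fun m' _ x => ⟨0, ?_⟩⟩
  rw [pow_zero, pow_one]
  obtain ⟨y, rfl⟩ := Ideal.Quotient.mk_surjective x
  obtain ⟨r, rfl⟩ := hs y
  obtain ⟨a, rfl⟩ := Ideal.Quotient.mk_surjective r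
  exact ⟨a, rfl⟩

theorem isGeomUnibranch_stalk_spec_field (k : CommRingCat.{u}) (hk : IsField k) (x : ↥(Spec k)) :
    CAlg2.IsGeomUnibranch ((Spec k).presheaf.stalk x) := by
  letI := hk.toField
  refine isGeomUnibranch_of_isField _ ?_
  show IsField ((Spec.structureSheaf k).presheaf.stalk x)
  let φ := IsLocalization.atUnits k x.asIdeal.primeCompl (S := (Spec.structureSheaf k).presheaf.stalk x) (fun r hr => by
    exact (isUnit_iff_ne_zero (a := r)).mpr fun h => hr (h ▸ x.asIdeal.zero_mem))
  exact φ.symm.toMulEquiv.isField hk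

section BC

variable {S S' : Scheme.{u}} (f : S' ⟶ S) {Z : Type u} [Group Z] {G : Over S} [GrpObj G]
  {e : G ≅ TwC.const S Z}

/-- Base changes of constant groups are constant. -/
theorem exists_bcConst (he : TwC.IsConstGrp Z G e) :
    ∃ e' : Red.bc f G ≅ TwC.const S' Z, TwC.IsConstGrp Z (Red.bc f G) e' := by
  let G' := Red.bc f G
  obtain ⟨α, hα⟩ := ConstPoints.exists_of_isLocallyConstant G' (ConstPoints.ix e (bcPt f (𝟙 G')))
    (ConstPoints.isLocallyConstant_ix (bcPt f (𝟙 G')))
  obtain ⟨ψ, hψ⟩ := ConstPoints.exists_of_isLocallyConstant ((Over.map f).obj (TwC.const S' Z))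
    (ConstPoints.idx (S := S') (T := TwC.const S' Z) (𝟙 (TwC.const S' Z))) (ConstPoints.isLocallyConstant_idx (S := S') (T := TwC.const S' Z) _)
  let β : TwC.const S' Z ⟶ G' := bcPtInv f (ψ ≫ e.inv)
  have hβ : ∀ {T : Over S'} (g : T ⟶ TwC.const S' Z) t, ConstPoints.ix e (bcPt f (g ≫ β)) t = ConstPoints.idx g t := by
    intro T g t
    rw [bcPt_comp, ConstPoints.ix_comp, bcPt_bcPtInv, ConstPoints.ix, Category.assoc, e.inv_hom_id, Category.comp_id,
      hψ]
    show ConstPoints.idx (𝟙 _) (g.left t) = _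
    rw [← ConstPoints.idx_comp, Category.comp_id]
  refine ⟨⟨α, β, ?_, ?_⟩, fun m n => ?_⟩
  · refine bcPt_injective f (ConstPoints.ix_ext (e := e) (funext fun t => ?_))
    rw [hβ, hα]
  · refine ConstPoints.ext (funext fun t => ?_)
    rw [ConstPoints.idx_comp, hα]
    have h := hβ (𝟙 (TwC.const S' Z)) t
    rw [Category.id_comp] at h
    rw [← h, ← Category.comp_id β, bcPt_comp, ConstPoints.ix_comp, Category.comp_id]
    rfl
  · refine bcPt_injective f (ConstPoints.ix_ext (e := e) (funext fun t => ?_))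
    show ConstPoints.ix e (bcPt f ((TwC.pt S' Z m ≫ β) * (TwC.pt S' Z n ≫ β))) t = _
    rw [bcPt_mul, ConstPoints.ix_mul he, hβ, hβ, hβ]
    have h : ∀ k : Z, TwC.pt S' Z k = toUnit (𝟙_ (Over S')) ≫ TwC.pt S' Z k := fun k => by
      rw [toUnit_unique (toUnit (𝟙_ (Over S'))) (𝟙 _), Category.id_comp]
    rw [h m, h n, h (m * n), ConstPoints.idx_pt, ConstPoints.idx_pt, ConstPoints.idx_pt]

end BC

/-- An exact sequence makes the middle term a pseudo-torsor over the quotient. -/
theorem exists_action_of_exact {S : Scheme.{u}} {G E P : Over S} [GrpObj G] [GrpObj E] [GrpObj P]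
    (u : G ⟶ E) (v : E ⟶ P) (hex : NonAbH1.IsExactSeq Scheme.fppfPrecoverage u v) :
    ∃ a : AlgGrp.Action (Red.bc P.hom G) (Over.mk v.left : Over P.left), NonAbH1.IsPseudoTorsorSch a := by
  have := hex.1
  have := hex.2.1
  let q := P.hom
  let Gb := Red.bc q G
  let X : Over P.left := Over.mk v.left
  let m : (Over.map q).obj X ⟶ E := Over.homMk (𝟙 E.left) (by
    show 𝟙 E.left ≫ E.hom = v.left ≫ P.hom
    rw [Category.id_comp, Over.w v])
  let prP : ∀ T : Over P.left, (Over.map q).obj T ⟶ P := fun T => Over.homMk T.hom rfl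
  have hm : ∀ {T : Over P.left} (x : T ⟶ X), (Over.map q).map x ≫ m ≫ v = prP T := fun x =>
    Over.OverMorphism.ext (by
      show x.left ≫ 𝟙 E.left ≫ v.left = _
      exact (congrArg (x.left ≫ ·) (Category.id_comp v.left)).trans (Over.w x))
  have hm_inj : ∀ {T : Over P.left} (x y : T ⟶ X), (Over.map q).map x ≫ m = (Over.map q).map y ≫ m → x = y :=
    fun x y h => Over.OverMorphism.ext (by
      have := congrArg CommaMorphism.left h
      exact (Category.comp_id x.left).symm.trans (this.trans (Category.comp_id y.left)))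
  let W := Gb ⊗ X
  let act₀ : (Over.map q).obj W ⟶ E :=
    (bcPt q (fst Gb X) ≫ u) * ((Over.map q).map (snd Gb X) ≫ m)
  have hact₀ : act₀ ≫ v = prP W := by
    rw [MonObj.mul_comp, Ext.comp_eq_one hex, _root_.one_mul, Category.assoc, hm]
  let A : W ⟶ X := Over.homMk act₀.left (by
    have := congrArg CommaMorphism.left hact₀
    exact this)
  have hA : (Over.map q).map A ≫ m = act₀ := Over.OverMorphism.ext (Category.comp_id _)
  have hdot : ∀ {T : Over P.left} (g : T ⟶ Gb) (x : T ⟶ X),
      (Over.map q).map (lift g x ≫ A) ≫ m = (bcPt q g ≫ u) * ((Over.map q).map x ≫ m) := fun g x => by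
    rw [Functor.map_comp, Category.assoc, hA, MonObj.comp_mul, ← Category.assoc, ← bcPt_comp, lift_fst,
      ← Category.assoc, ← Functor.map_comp, lift_snd]
  have hone : ∀ {T : Over P.left} (x : T ⟶ X), lift (1 : T ⟶ Gb) x ≫ A = x := fun x => hm_inj _ _ (by
    rw [hdot, bcPt_one, MonObj.one_comp, _root_.one_mul])
  have hmul : ∀ {T : Over P.left} (g g' : T ⟶ Gb) (x : T ⟶ X),
      lift (g * g') x ≫ A = lift g (lift g' x ≫ A) ≫ A := fun g g' x => hm_inj _ _ (by
    rw [hdot, hdot, hdot, bcPt_mul, MonObj.mul_comp, _root_.mul_assoc])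
  let a : AlgGrp.Action Gb X :=
    { act := A
      one_act := by
        have h : (η[Gb] ▷ X) = lift (1 : _ ⟶ Gb) (λ_ X).hom := by
          apply CartesianMonoidalCategory.hom_ext
          · rw [whiskerRight_fst, lift_fst, Hom.one_def]
            exact congrArg (· ≫ η[Gb]) (toUnit_unique _ _)
          · rw [whiskerRight_snd, lift_snd, leftUnitor_hom]
        rw [h, hone]
      mul_act := by
        have h1 : μ[Gb] ▷ X = lift ((fst _ X ≫ fst Gb Gb) * (fst _ X ≫ snd Gb Gb)) (snd (Gb ⊗ Gb) X) := by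
          apply CartesianMonoidalCategory.hom_ext
          · rw [whiskerRight_fst, lift_fst, ← MonObj.comp_mul, Hom.mul_def, lift_fst_snd, Category.id_comp]
          · rw [whiskerRight_snd, lift_snd]
        rw [h1, hmul, ← Category.assoc]
        congr 1
        apply CartesianMonoidalCategory.hom_ext
        · simp
        · rw [lift_snd, Category.assoc, whiskerLeft_snd, ← Category.assoc]
          congr 1
          apply CartesianMonoidalCategory.hom_ext <;> simp }
  have ha : NonAbH1.IsPseudoTorsorSch a := by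
    refine Pi1Tors.isPseudoTorsor_of_points a (fun T x y => ?_) (fun T g g' x h => ?_)
    · obtain ⟨k, hk⟩ := Ext.exists_kernel hex
        (((Over.map q).map x ≫ m) * ((Over.map q).map y ≫ m)⁻¹) (by
          rw [MonObj.mul_comp, GrpObj.inv_comp, Category.assoc, Category.assoc, hm, hm, mul_inv_cancel])
      refine ⟨bcPtInv q k, hm_inj _ _ ?_⟩
      rw [show Pi1Tors.dot a (bcPtInv q k) y = lift (bcPtInv q k) y ≫ A from rfl, hdot, bcPt_bcPtInv, ← hk,
        inv_mul_cancel_right]
    · apply bcPt_injective q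
      apply Ext.u_injective hex
      have h' := congrArg (fun z => (Over.map q).map z ≫ m) h
      simp only [show ∀ g : T ⟶ Gb, Pi1Tors.dot a g x = lift g x ≫ A from fun _ => rfl, hdot] at h'
      exact mul_right_cancel h'
  exact ⟨a, ha⟩

/-- An extension of a scheme smooth over an irreducible geometrically unibranch one by a torsion free
constant group has a section as a scheme. -/
theorem exists_section_of_exact {S : Scheme.{u}} [IrreducibleSpace S]
    (hS : ∀ s : S, CAlg2.IsGeomUnibranch (S.presheaf.stalk s))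
    {Z : Type u} [Group Z] (hZ : ∀ z : Z, IsOfFinOrder z → z = 1)
    {G E P : Over S} [GrpObj G] [GrpObj E] [GrpObj P] (eG : G ≅ TwC.const S Z) (hG : TwC.IsConstGrp Z G eG)
    [Smooth P.hom] (u : G ⟶ E) (v : E ⟶ P) (hex : NonAbH1.IsExactSeq Scheme.fppfPrecoverage u v) :
    ∃ σ : P ⟶ E, σ ≫ v = 𝟙 P := by
  obtain ⟨eb, heb⟩ := exists_bcConst P.hom hG
  obtain ⟨a, ha⟩ := exists_action_of_exact u v hex
  obtain ⟨σ, hσ⟩ := hasSectionOver a heb P.hom hS ha hex.2.2.2.2 hZ
  exact ⟨Over.homMk σ (by
    rw [← Over.w v, ← Category.assoc, show σ ≫ v.left = 𝟙 P.left from hσ, Category.id_comp]), Over.OverMorphism.ext hσ⟩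

end Groth.ConstTorsor
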