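import Groth.Agent.EtaPt16.Components
import Groth.Agent.EtaleBaseTwo.EtaleComponents
import Groth.Agent.Hensel1.SmoothBranchesScheme

/-!
# Irreducible components of schemes smooth over a geometrically unibranch irreducible base
-/

set_option autoImplicit false
universe u

open CategoryTheory AlgebraicGeometry TopologicalSpace

namespace Groth.ConstTorsor

variable {P S : Scheme.{u}} (f : P ⟶ S) [Smooth f] [IrreducibleSpace S]

include f in
/-- Such a scheme has one component through each point. -/
theorem existsUnique_component (hS : ∀ s : S, CAlg2.IsGeomUnibranch (S.presheaf.stalk s)) (p : P) :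
    ∃! Z, Z ∈ irreducibleComponents (P : Type u) ∧ p ∈ Z :=
  Groth.EtaleBaseTwo.existsUnique_component_of_nilradical_isPrime
    (Groth.EtaleBaseTwo.nilradical_isPrime_of_isGeomUnibranch
      ((Groth.Hensel1.isGeomUnibranch_stalk_iff_of_smooth f p).mpr (hS _)))

include f in
/-- Such a scheme has open components. -/
theorem isOpen_component (hS : ∀ s : S, CAlg2.IsGeomUnibranch (S.presheaf.stalk s))
    {Z : Set P} (hZ : Z ∈ irreducibleComponents (P : Type u)) : IsOpen Z := by
  refine isOpen_iff_forall_mem_open.mpr fun x hx => ?_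
  -- finitely many components meet an affine neighbourhood
  let R : S.Opens := ⟨Set.range f, f.isOpenMap.isOpen_range⟩
  have hr : Set.range f ⊆ Set.range R.ι := by rw [Scheme.Opens.range_ι]; exact subset_rfl
  let g := IsOpenImmersion.lift R.ι f hr
  have hg : g ≫ R.ι = f := IsOpenImmersion.lift_fac _ _ _
  have : Smooth (g ≫ R.ι) := hg.symm ▸ inferInstance
  have : Flat g := MorphismProperty.of_postcomp (W := @Flat) (W' := @IsOpenImmersion) g R.ι inferInstance inferInstance
  have : LocallyOfFinitePresentation g := MorphismProperty.of_postcomp (W := @LocallyOfFinitePresentation)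
    (W' := @IsOpenImmersion) g R.ι inferInstance inferInstance
  have : Surjective g := ⟨fun v => by
    obtain ⟨w, hw⟩ : v.1 ∈ Set.range f := v.2
    exact ⟨w, Subtype.ext (by show (g ≫ R.ι) w = v.1; rw [hg]; exact hw)⟩⟩
  obtain ⟨_, ⟨V₀, hV, rfl⟩, hxV, -⟩ := P.isBasis_affineOpens.exists_subset_of_mem_open (Set.mem_univ x) isOpen_univ
  let V : P.Opens := V₀
  have hfin : (irreducibleComponents (V : Type u)).Finite :=
    Groth.EtaPt16.finite_components_opens g (fun U _ => by
      rcases isEmpty_or_nonempty (U : Type u) with h | h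
      · exact Set.finite_empty.subset fun C hC => (hC.1.1.ne_empty (Set.eq_empty_of_isEmpty C)).elim
      · have : IrreducibleSpace (R : Scheme.{u}) := by
          obtain ⟨⟨r, _⟩⟩ := h
          have hRi : IsIrreducible (R : Set S) := ⟨⟨r.1, r.2⟩,
            (IrreducibleSpace.isIrreducible_univ S).2.open_subset R.isOpen (Set.subset_univ _)⟩
          exact Subtype.irreducibleSpace hRi
        have : IrreducibleSpace (U : Type u) := by
          obtain ⟨⟨r, hr⟩⟩ := h
          exact Subtype.irreducibleSpace ⟨⟨r, hr⟩,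
            (IrreducibleSpace.isIrreducible_univ _).2.open_subset U.isOpen (Set.subset_univ _)⟩
        rw [irreducibleComponents_eq_singleton]
        exact Set.finite_singleton _)
      V hV.isCompact
  let C : Set (V : Type u) :=
    ⋃ W ∈ {W ∈ irreducibleComponents (V : Type u) | (⟨x, hxV⟩ : (V : Type u)) ∉ W}, W
  have hC : IsClosed C := (hfin.subset fun W hW => hW.1).isClosed_biUnion
    fun W hW => isClosed_of_mem_irreducibleComponents W hW.1
  refine ⟨Subtype.val '' Cᶜ, ?_, V.isOpen.isOpenMap_subtype_val _ hC.isOpen_compl,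
    ⟨⟨x, hxV⟩, fun h => ?_, rfl⟩⟩
  · rintro _ ⟨y, hy, rfl⟩
    have hW := irreducibleComponent_mem_irreducibleComponents y
    have hxW : (⟨x, hxV⟩ : (V : Type u)) ∈ irreducibleComponent y :=
      by_contra fun h => hy (Set.mem_iUnion₂.mpr ⟨_, ⟨hW, h⟩, mem_irreducibleComponent⟩)
    obtain ⟨Z', hZ', hsub⟩ := exists_mem_irreducibleComponents_subset_of_isIrreducible _
      (hW.1.image Subtype.val continuous_subtype_val.continuousOn)
    have := (existsUnique_component f hS x).unique ⟨hZ, hx⟩ ⟨hZ', hsub ⟨_, hxW, rfl⟩⟩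
    exact this ▸ hsub ⟨y, mem_irreducibleComponent, rfl⟩
  · obtain ⟨W, hW, hxW⟩ := Set.mem_iUnion₂.mp h
    exact hW.2 hxW

end Groth.ConstTorsor
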