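import Groth.Agent.ConstTorsor.ExtSection
import Groth.Agent.Pi1Tors.Exact
import Mathlib.AlgebraicGeometry.Morphisms.Smooth

/-!
# Extensions by constant torsion free groups are determined at the generic point
-/

set_option autoImplicit false
set_option backward.isDefEq.respectTransparency false
set_option synthInstance.maxHeartbeats 200000
set_option maxHeartbeats 1000000
attribute [local instance 10000] CategoryTheory.Hom.group
universe u

open CategoryTheory CategoryTheory.Limits MonoidalCategory CartesianMonoidalCategory MonObj AlgebraicGeometry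
open Functor.LaxMonoidal Functor.OplaxMonoidal

attribute [-instance] CategoryTheory.GrpObj.tensorObj.instTensorObj CategoryTheory.Mon.instMonObjTensorObj
  CategoryTheory.MonObj.tensorObj.instTensorObj

namespace Groth.ConstTorsor

open Groth.SGA7 Groth.AlgGrp2

/-- Locally constant functions on a scheme smooth over an irreducible geometrically unibranch base are
functions on the generic fibre. -/
theorem existsUnique_extend {Y S W : Scheme.{u}} (g : Y ⟶ S) [Smooth g] [IrreducibleSpace S]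
    (hS : ∀ s : S, CAlg2.IsGeomUnibranch (S.presheaf.stalk s)) (r : W ⟶ Y) [IsPreimmersion r]
    (hr : Set.range r = g ⁻¹' {genericPoint S}) {M : Type u} (b : W → M) (hb : IsLocallyConstant b) :
    ∃! a : Y → M, IsLocallyConstant a ∧ ∀ w, a (r w) = b w := by
  have hgen : ∀ y : Y, ∃ w : W, IsGenericPoint (r w) (irreducibleComponent y) := fun y => by
    have hC := irreducibleComponent_mem_irreducibleComponents y
    obtain ⟨ζ, hζ⟩ := QuasiSober.sober hC.1 (isClosed_of_mem_irreducibleComponents _ hC)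
    obtain ⟨w, hw⟩ := hr.ge (show ζ ∈ g ⁻¹' {genericPoint S} from
      Groth.EtaleBaseTwo.map_genericPoint_of_flat g hC hζ)
    exact ⟨w, hw ▸ hζ⟩
  choose w hw using hgen
  have heq : ∀ y y', y' ∈ irreducibleComponent y → irreducibleComponent y' = irreducibleComponent y :=
    fun y y' h => (existsUnique_component g hS y').unique
      ⟨irreducibleComponent_mem_irreducibleComponents y', mem_irreducibleComponent⟩
      ⟨irreducibleComponent_mem_irreducibleComponents y, h⟩
  have hsp : ∀ v v' : W, r v ⤳ r v' → b v = b v' := fun v v' h =>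
    ((r.isEmbedding.isInducing.specializes_iff.mp h).mem_open (hb {b v'}) rfl)
  refine ⟨fun y => b (w y), ⟨IsLocallyConstant.iff_exists_open _ |>.mpr fun y =>
    ⟨irreducibleComponent y, isOpen_component g hS (irreducibleComponent_mem_irreducibleComponents y),
      mem_irreducibleComponent, fun y' hy' => ?_⟩, fun v => hsp _ _ ((hw (r v)).specializes mem_irreducibleComponent)⟩,
    fun a ⟨ha, har⟩ => funext fun y => ?_⟩
  · show b (w y') = b (w y)
    exact hsp _ _ (by rw [show r (w y') = r (w y) from (heq y y' hy' ▸ hw y').eq (hw y)])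
  · rw [← har]
    exact (((hw y).specializes mem_irreducibleComponent).mem_open (ha {a y}) rfl).symm

variable {S : Scheme.{u}} [IrreducibleSpace S] (hS : ∀ s : S, CAlg2.IsGeomUnibranch (S.presheaf.stalk s))

include hS in
/-- Points of a constant scheme on smooth schemes are points on the generic fibre. -/
theorem bijective_map_const {ξ : S} (hξ : IsGenericPoint ξ (Set.univ : Set S)) {Z : Type u} {G : Over S}
    (eG : G ≅ TwC.const S Z) (Y : Over S) [Smooth Y.hom] :
    Function.Bijective (fun a : Y ⟶ G => (Over.pullback (S.fromSpecResidueField ξ)).map a) := by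
  let ι₀ := S.fromSpecResidueField ξ
  let r := pullback.fst Y.hom ι₀
  have hr : Set.range r = Y.hom ⁻¹' {genericPoint S} := by
    rw [← hξ.eq (genericPoint_spec S)]
    exact Y.hom.range_fiberι ξ
  have key : ∀ (a : Y ⟶ G) (t : ↥((Over.pullback ι₀).obj Y).left),
      ConstPoints.ix eG (bcPt ι₀ ((Over.pullback ι₀).map a)) t = ConstPoints.ix eG a (r t) := fun a t => by
    rw [← Category.id_comp ((Over.pullback ι₀).map a), bcPt_comp_map, ConstPoints.ix_comp]
    congr 1
  constructor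
  · intro a a' h
    refine ConstPoints.ix_ext (e := eG) ?_
    refine (existsUnique_extend Y.hom hS r hr (fun t => ConstPoints.ix eG a (r t))
      ((ConstPoints.isLocallyConstant_ix a).comp_continuous r.continuous)).unique
      ⟨ConstPoints.isLocallyConstant_ix a, fun _ => rfl⟩ ⟨ConstPoints.isLocallyConstant_ix a', fun t => ?_⟩
    rw [← key a, ← key a']
    exact congrArg (fun z : (Over.map ι₀).obj ((Over.pullback ι₀).obj Y) ⟶ G => ConstPoints.ix eG z t) (congrArg (bcPt ι₀) h.symm)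
  · intro d
    obtain ⟨f, ⟨hf, hfr⟩, -⟩ := existsUnique_extend Y.hom hS r hr (fun t => ConstPoints.ix eG (bcPt ι₀ d) t)
      (ConstPoints.isLocallyConstant_ix (bcPt ι₀ d))
    obtain ⟨φ, hφ⟩ := ConstPoints.exists_of_isLocallyConstant Y f hf
    refine ⟨φ ≫ eG.inv, bcPt_injective ι₀ (ConstPoints.ix_ext (e := eG) (funext fun t => ?_))⟩
    refine (key (φ ≫ eG.inv) t).trans ((congrFun ?_ (r t)).trans (hfr t))
    show ConstPoints.idx ((φ ≫ eG.inv) ≫ eG.hom) = f
    rw [Category.assoc, eG.inv_hom_id, Category.comp_id, hφ]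

omit [IrreducibleSpace S] in
theorem smooth_tensorObj (X Y : Over S) [Smooth X.hom] [Smooth Y.hom] : Smooth (X ⊗ Y).hom := by
  show Smooth (pullback.fst X.hom Y.hom ≫ X.hom)
  infer_instance

include hS in
/-- An extension over the generic point by a constant torsion free group extends. -/
theorem exists_extension {ξ : S} (hξ : IsGenericPoint ξ (Set.univ : Set S))
    {Z : Type u} [Group Z] (hZ : ∀ z : Z, IsOfFinOrder z → z = 1)
    (G P : Over S) [GrpObj G] [GrpObj P] (eG : G ≅ TwC.const S Z) (hG : TwC.IsConstGrp Z G eG) [Smooth P.hom]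
    (E' : Over (Spec (S.residueField ξ))) [GrpObj E']
    (u' : Red.bc (S.fromSpecResidueField ξ) G ⟶ E') (v' : E' ⟶ Red.bc (S.fromSpecResidueField ξ) P)
    (hex' : NonAbH1.IsExactSeq Scheme.fppfPrecoverage u' v') :
    ∃ (E : Over S) (_ : GrpObj E) (u : G ⟶ E) (v : E ⟶ P)
      (φ : Red.bc (S.fromSpecResidueField ξ) E ≅ E'),
      NonAbH1.IsExactSeq Scheme.fppfPrecoverage u v ∧ IsMonHom φ.hom ∧
        (Over.pullback (S.fromSpecResidueField ξ)).map u ≫ φ.hom = u' ∧
        φ.hom ≫ v' = (Over.pullback (S.fromSpecResidueField ξ)).map v := by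
  have := hex'.1
  have := hex'.2.1
  let F := Over.pullback (S.fromSpecResidueField ξ)
  obtain ⟨eη, heη⟩ := exists_bcConst (S.fromSpecResidueField ξ) hG
  have : Smooth (Red.bc (S.fromSpecResidueField ξ) P).hom :=
    MorphismProperty.pullback_snd (P := @Smooth) _ _ ‹_›
  obtain ⟨σ, hσ⟩ := exists_section_of_exact
    (isGeomUnibranch_stalk_spec_field (S.residueField ξ) (Field.toIsField _)) hZ eη heη u' v' hex'
  -- `G` is smooth
  have : Smooth G.hom := by
    have : Etale G.hom := etale_const eG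
    infer_instance
  let E₀ : Over S := G ⊗ P
  have : Smooth E₀.hom := smooth_tensorObj G P
  let Φ₀ : F.obj E₀ ⟶ E' := (F.map (fst G P) ≫ u') * (F.map (snd G P) ≫ σ)
  obtain ⟨d, hd⟩ := Ext.exists_kernel hex' (𝟙 E' * (v' ≫ σ)⁻¹) (by
    rw [MonObj.mul_comp, GrpObj.inv_comp, Category.assoc, hσ, Category.comp_id, Category.id_comp, mul_inv_cancel])
  have hΦv : Φ₀ ≫ v' = F.map (snd G P) := by
    rw [MonObj.mul_comp, Ext.comp_eq_one hex', _root_.one_mul, Category.assoc, hσ, Category.comp_id]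
  let Ψ₀ : E' ⟶ F.obj E₀ := lift d v' ≫ Functor.LaxMonoidal.μ F G P
  have hΨ1 : Ψ₀ ≫ F.map (fst G P) = d := by
    simp only [Ψ₀, Category.assoc, Functor.Monoidal.μ_fst]; exact lift_fst d v'
  have hΨ2 : Ψ₀ ≫ F.map (snd G P) = v' := by
    simp only [Ψ₀, Category.assoc, Functor.Monoidal.μ_snd]; exact lift_snd d v'
  have prodExt : ∀ {T : Over (Spec (S.residueField ξ))} (x y : T ⟶ F.obj E₀),
      x ≫ F.map (fst G P) = y ≫ F.map (fst G P) → x ≫ F.map (snd G P) = y ≫ F.map (snd G P) → x = y := by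
    intro T x y h1 h2
    rw [← cancel_mono (Functor.OplaxMonoidal.δ F G P)]
    apply CartesianMonoidalCategory.hom_ext <;> simpa [E₀]
  have hΨΦ : Ψ₀ ≫ Φ₀ = 𝟙 E' := by
    rw [MonObj.comp_mul, reassoc_of% hΨ1, reassoc_of% hΨ2, ← hd, inv_mul_cancel_right]
  have hΦd : Φ₀ ≫ d = F.map (fst G P) := Ext.u_injective hex' (by
    rw [Category.assoc, ← hd, MonObj.comp_mul, GrpObj.comp_inv, Category.comp_id, ← Category.assoc Φ₀ v', hΦv,
      mul_inv_cancel_right])
  let Φ : F.obj E₀ ≅ E' := ⟨Φ₀, Ψ₀, prodExt _ _ (by rw [Category.assoc, hΨ1, hΦd, Category.id_comp])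
    (by rw [Category.assoc, hΨ2, hΦv, Category.id_comp]), hΨΦ⟩
  -- morphisms into `E₀`
  have ext : ∀ {Y : Over S} [Smooth Y.hom] (h h' : Y ⟶ E₀), h ≫ snd G P = h' ≫ snd G P →
      F.map h ≫ Φ₀ = F.map h' ≫ Φ₀ → h = h' := by
    intro Y _ h h' h1 h2
    refine CartesianMonoidalCategory.hom_ext _ _ ((bijective_map_const hS hξ eG Y).1 ?_) h1
    show F.map (h ≫ fst G P) = F.map (h' ≫ fst G P)
    rw [F.map_comp, F.map_comp, ← hΦd, ← Category.assoc, ← Category.assoc, h2]
  have exi : ∀ {Y : Over S} [Smooth Y.hom] (f : Y ⟶ P) (g : F.obj Y ⟶ E'), g ≫ v' = F.map f →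
      ∃ h : Y ⟶ E₀, h ≫ snd G P = f ∧ F.map h ≫ Φ₀ = g := by
    intro Y _ f g hg
    obtain ⟨a, ha⟩ := (bijective_map_const hS hξ eG Y).2 (g ≫ d)
    refine ⟨lift a f, lift_snd _ _, ?_⟩
    rw [MonObj.comp_mul, ← Category.assoc, ← Category.assoc (F.map (lift a f)), ← F.map_comp, ← F.map_comp, lift_fst,
      lift_snd, show F.map a = g ≫ d from ha, ← hg, Category.assoc, ← hd, MonObj.comp_mul, GrpObj.comp_inv,
      Category.comp_id, Category.assoc, inv_mul_cancel_right]
  have : Smooth (E₀ ⊗ E₀).hom := smooth_tensorObj _ _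
  have : Smooth ((E₀ ⊗ E₀) ⊗ E₀).hom := smooth_tensorObj _ _
  have : Smooth (𝟙_ (Over S)).hom := inferInstanceAs (Smooth (𝟙 S))
  have : Smooth (E₀ ⊗ 𝟙_ (Over S)).hom := smooth_tensorObj _ _
  have : Smooth (𝟙_ (Over S) ⊗ E₀).hom := smooth_tensorObj _ _
  have : Smooth (E₀ ⊗ G).hom := smooth_tensorObj _ _
  have : Smooth (G ⊗ G).hom := smooth_tensorObj _ _
  obtain ⟨mu, hmu1, hmu2⟩ := exi ((fst E₀ E₀ ≫ snd G P) * (snd E₀ E₀ ≫ snd G P))
    ((F.map (fst E₀ E₀) ≫ Φ₀) * (F.map (snd E₀ E₀) ≫ Φ₀)) (by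
      rw [MonObj.mul_comp, Category.assoc, Category.assoc, hΦv, Functor.map_mul, F.map_comp, F.map_comp])
  obtain ⟨on, hon1, hon2⟩ := exi (1 : 𝟙_ (Over S) ⟶ P) 1 (by rw [MonObj.one_comp, Functor.map_one])
  obtain ⟨iv, hiv1, hiv2⟩ := exi (snd G P)⁻¹ Φ₀⁻¹ (by
    rw [GrpObj.inv_comp, hΦv]
    exact (map_inv (Functor.homMonoidHom F) (snd G P)).symm)
  have mu1 : ∀ {Y : Over S} (k : Y ⟶ E₀ ⊗ E₀),
      k ≫ mu ≫ snd G P = (k ≫ fst E₀ E₀ ≫ snd G P) * (k ≫ snd E₀ E₀ ≫ snd G P) := fun k => by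
    rw [hmu1, MonObj.comp_mul]
  have mu2 : ∀ {Y : Over S} (k : Y ⟶ E₀ ⊗ E₀), F.map (k ≫ mu) ≫ Φ₀ =
      (F.map (k ≫ fst E₀ E₀) ≫ Φ₀) * (F.map (k ≫ snd E₀ E₀) ≫ Φ₀) := fun k => by
    rw [F.map_comp, Category.assoc, hmu2, MonObj.comp_mul, F.map_comp, F.map_comp, Category.assoc, Category.assoc]
  have on1 : ∀ Y : Over S, toUnit Y ≫ on ≫ snd G P = 1 := fun Y => by rw [hon1, MonObj.comp_one]
  have on2 : ∀ Y : Over S, F.map (toUnit Y ≫ on) ≫ Φ₀ = 1 := fun Y => by
    rw [F.map_comp, Category.assoc, hon2, MonObj.comp_one]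
  letI : GrpObj E₀ :=
    { one := on
      mul := mu
      one_mul := by
        rw [show on ▷ E₀ = lift (toUnit _ ≫ on) (snd _ E₀) by
          apply CartesianMonoidalCategory.hom_ext
          · rw [whiskerRight_fst, lift_fst]; congr 1
          · rw [whiskerRight_snd, lift_snd], leftUnitor_hom]
        refine ext _ _ ?_ ?_
        · rw [Category.assoc, mu1, lift_fst_assoc, lift_snd_assoc, Category.assoc, on1, _root_.one_mul]
        · rw [mu2, lift_fst, lift_snd, on2, _root_.one_mul]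
      mul_one := by
        rw [show E₀ ◁ on = lift (fst E₀ _) (toUnit _ ≫ on) by
          apply CartesianMonoidalCategory.hom_ext
          · rw [whiskerLeft_fst, lift_fst]
          · rw [whiskerLeft_snd, lift_snd]; congr 1; exact toUnit_unique _ _, rightUnitor_hom]
        refine ext _ _ ?_ ?_
        · rw [Category.assoc, mu1, lift_fst_assoc, lift_snd_assoc, Category.assoc, on1, _root_.mul_one]
        · rw [mu2, lift_fst, lift_snd, on2, _root_.mul_one]
      mul_assoc := by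
        have hl : mu ▷ E₀ = lift (fst _ E₀ ≫ mu) (snd _ E₀) := by
          apply CartesianMonoidalCategory.hom_ext <;> simp
        have hr : (α_ E₀ E₀ E₀).hom ≫ (E₀ ◁ mu) =
            lift (fst _ E₀ ≫ fst E₀ E₀) (lift (fst _ E₀ ≫ snd E₀ E₀) (snd _ E₀) ≫ mu) := by
          apply CartesianMonoidalCategory.hom_ext
          · simp
          · rw [Category.assoc, whiskerLeft_snd, lift_snd, ← Category.assoc]
            congr 1
            apply CartesianMonoidalCategory.hom_ext <;> simp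
        rw [← Category.assoc (α_ E₀ E₀ E₀).hom, hl, hr]
        refine ext _ _ ?_ ?_
        · simp only [Category.assoc, mu1, lift_fst_assoc, lift_snd_assoc, _root_.mul_assoc]
        · simp only [mu2, lift_fst, lift_snd, _root_.mul_assoc]
      inv := iv
      left_inv := by
        refine ext _ _ ?_ ?_
        · rw [Category.assoc, mu1, lift_fst_assoc, lift_snd_assoc, Category.assoc, on1, hiv1, Category.id_comp,
            inv_mul_cancel]
        · rw [mu2, lift_fst, lift_snd, on2, hiv2, F.map_id, Category.id_comp, inv_mul_cancel]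
      right_inv := by
        refine ext _ _ ?_ ?_
        · rw [Category.assoc, mu1, lift_fst_assoc, lift_snd_assoc, Category.assoc, on1, hiv1, Category.id_comp,
            mul_inv_cancel]
        · rw [mu2, lift_fst, lift_snd, on2, hiv2, F.map_id, Category.id_comp, mul_inv_cancel] }
  have hμ : ∀ {Y : Over S} (x y : Y ⟶ E₀), x * y = lift x y ≫ mu := fun x y => Hom.mul_def (M := E₀) x y
  have hsnd : ∀ {Y : Over S} (x y : Y ⟶ E₀), (x * y) ≫ snd G P = (x ≫ snd G P) * (y ≫ snd G P) := fun x y => by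
    rw [hμ, Category.assoc, mu1, lift_fst_assoc, lift_snd_assoc]
  have hΦmul : ∀ {Y : Over S} (x y : Y ⟶ E₀), F.map (x * y) ≫ Φ₀ = (F.map x ≫ Φ₀) * (F.map y ≫ Φ₀) := fun x y => by
    rw [hμ, mu2, lift_fst, lift_snd]
  have : IsMonHom (snd G P : E₀ ⟶ P) :=
    { one_hom := hon1.trans (by rw [Hom.one_def, toUnit_unique (toUnit (𝟙_ (Over S))) (𝟙 _), Category.id_comp])
      mul_hom := by
        have h := hsnd (fst E₀ E₀) (snd E₀ E₀)
        rw [Hom.mul_def, lift_fst_snd, Category.id_comp] at h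
        rw [h, Hom.mul_def]
        congr 1 }
  obtain ⟨u, hu1, hu2⟩ := exi (1 : G ⟶ P) u' (by rw [hex'.2.2.1, Functor.map_one])
  have humul : (fst G G * snd G G) ≫ u = (fst G G ≫ u) * (snd G G ≫ u) := ext _ _
    (by rw [hsnd, Category.assoc, Category.assoc, Category.assoc, hu1, MonObj.comp_one, MonObj.comp_one, MonObj.comp_one, _root_.mul_one])
    (by rw [hΦmul, F.map_comp, F.map_comp, F.map_comp, Category.assoc, Category.assoc, Category.assoc, hu2,
      Functor.map_mul, MonObj.mul_comp])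
  have huMul' : ∀ {T : Over S} (x y : T ⟶ G), (x * y) ≫ u = (x ≫ u) * (y ≫ u) := fun x y => by
    have h := congrArg (lift x y ≫ ·) humul
    simpa only [← Category.assoc, MonObj.comp_mul, lift_fst, lift_snd] using h
  have huone : η[G] ≫ u = η[E₀] := by
    have h := huMul' (1 : 𝟙_ (Over S) ⟶ G) 1
    rw [_root_.one_mul, right_eq_mul, Hom.one_def, Hom.one_def, toUnit_unique (toUnit (𝟙_ (Over S))) (𝟙 _),
      Category.id_comp, Category.id_comp] at h
    exact h
  have : IsMonHom u :=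
    { one_hom := huone
      mul_hom := by
        have h := humul
        rw [Hom.mul_def, lift_fst_snd, Category.id_comp] at h
        rw [h, Hom.mul_def]
        congr 1 }
  have hu0 : u ≫ snd G P = 1 := hu1
  -- translations
  let Y₁ := E₀ ⊗ G
  let x₁ : Y₁ ⟶ E₀ := fst E₀ G
  let y₁ : Y₁ ⟶ E₀ := lift (snd E₀ G) (fst E₀ G ≫ snd G P)
  obtain ⟨δη, hδη⟩ := Ext.exists_translate hex' (F.map x₁ ≫ Φ₀) (F.map y₁ ≫ Φ₀) (by
    rw [Category.assoc, Category.assoc, hΦv, ← F.map_comp, ← F.map_comp]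
    simp [x₁, y₁])
  obtain ⟨δ₁, hδ₁⟩ := (bijective_map_const hS hξ eG Y₁).2 δη
  have htr₁ : y₁ = x₁ * (δ₁ ≫ u) := ext _ _
    (by rw [hsnd, Category.assoc, hu0, MonObj.comp_one, _root_.mul_one]; simp [x₁, y₁])
    (by rw [hΦmul, F.map_comp, Category.assoc, hu2, show F.map δ₁ = δη from hδ₁, ← hδη])
  have htr : ∀ {T : Over S} (x y : T ⟶ E₀), x ≫ snd G P = y ≫ snd G P →
      y = x * ((lift x (y ≫ fst G P) ≫ δ₁) ≫ u) := by
    intro T x y hxy
    have h := congrArg (lift x (y ≫ fst G P) ≫ ·) htr₁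
    simp only [MonObj.comp_mul, x₁, y₁, lift_fst, comp_lift, lift_snd, lift_fst_assoc, hxy] at h
    rw [Category.assoc]
    refine Eq.trans ?_ h
    apply CartesianMonoidalCategory.hom_ext <;> simp
  have hretr : lift (1 : G ⟶ E₀) (u ≫ fst G P) ≫ δ₁ = 𝟙 G := by
    refine (bijective_map_const hS hξ eG G).1 (Ext.u_injective hex' ?_)
    have h := htr (1 : G ⟶ E₀) u (by rw [MonObj.one_comp, hu0])
    rw [_root_.one_mul] at h
    have h' := congrArg (fun z => F.map z ≫ Φ₀) h
    simp only [F.map_comp, Category.assoc, hu2] at h'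
    show F.map _ ≫ u' = F.map _ ≫ u'
    rw [F.map_id, Category.id_comp, F.map_comp, Category.assoc]
    exact h'.symm
  have hinj : ∀ (T : Over S) (g g' : T ⟶ G), g ≫ u = g' ≫ u → g = g' := by
    intro T g g' h
    have e1 : ∀ k : T ⟶ G, k = lift (1 : T ⟶ E₀) ((k ≫ u) ≫ fst G P) ≫ δ₁ := fun k => by
      calc k = k ≫ lift (1 : G ⟶ E₀) (u ≫ fst G P) ≫ δ₁ := by rw [hretr, Category.comp_id]
        _ = _ := by rw [← Category.assoc, comp_lift, MonObj.comp_one, Category.assoc k u]
    rw [e1 g, e1 g', h]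
  have hexact : NonAbH1.IsExactSeq Scheme.fppfPrecoverage u (snd G P) := by
    have hsec : ∃ s : P ⟶ E₀, s ≫ snd G P = 𝟙 P := ⟨lift 1 (𝟙 P), lift_snd _ _⟩
    obtain ⟨s, hs⟩ := hsec
    have hpts := Groth.Pi1Tors.isExactSeq_of_points' u (snd G P)
      (fun T g => by rw [Category.assoc, hu0, MonObj.comp_one])
      (fun T x hx => ⟨_, ((htr 1 x (by rw [MonObj.one_comp, hx])).trans (_root_.one_mul _)).symm⟩) hinj
      ⟨Presieve.singleton (𝟙 P.left), Scheme.Hom.singleton_mem_fpqcPrecoverage (𝟙 P.left), fun S' f hf => by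
        cases hf; exact ⟨s.left, congrArg CommaMorphism.left hs⟩⟩
    obtain ⟨h1, h2, h3, h4, -⟩ := hpts
    exact ⟨h1, h2, h3, h4, Presieve.singleton (𝟙 P.left), Scheme.Hom.singleton_mem_fppfPrecoverage (𝟙 P.left),
      fun S' f hf => by cases hf; exact ⟨s.left, congrArg CommaMorphism.left hs⟩⟩
  refine ⟨E₀, inferInstance, u, snd G P, Φ, hexact, ?_, hu2, hΦv⟩
  -- `Φ` is a homomorphism
  have hΦhom : (fst (F.obj E₀) (F.obj E₀) * snd (F.obj E₀) (F.obj E₀)) ≫ Φ₀ =
      (fst (F.obj E₀) (F.obj E₀) ≫ Φ₀) * (snd (F.obj E₀) (F.obj E₀) ≫ Φ₀) := by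
    have e1 : Functor.OplaxMonoidal.δ F E₀ E₀ ≫ (fst (F.obj E₀) (F.obj E₀) * snd (F.obj E₀) (F.obj E₀)) =
        F.map (fst E₀ E₀ * snd E₀ E₀) := by
      rw [MonObj.comp_mul, Functor.OplaxMonoidal.δ_fst, Functor.OplaxMonoidal.δ_snd, Functor.map_mul]
    have e2 : Functor.OplaxMonoidal.δ F E₀ E₀ ≫ ((fst (F.obj E₀) (F.obj E₀) ≫ Φ₀) * (snd (F.obj E₀) (F.obj E₀) ≫ Φ₀)) =
        (F.map (fst E₀ E₀) ≫ Φ₀) * (F.map (snd E₀ E₀) ≫ Φ₀) := by
      rw [MonObj.comp_mul, Functor.OplaxMonoidal.δ_fst_assoc, Functor.OplaxMonoidal.δ_snd_assoc]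
    refine (cancel_epi (Functor.OplaxMonoidal.δ F E₀ E₀)).mp ?_
    rw [← Category.assoc, e1, e2]
    exact hΦmul _ _
  have hΦhom' : ∀ {T : Over (Spec (S.residueField ξ))} (x y : T ⟶ F.obj E₀),
      (x * y) ≫ Φ₀ = (x ≫ Φ₀) * (y ≫ Φ₀) := fun x y => by
    have h := congrArg (lift x y ≫ ·) hΦhom
    simpa only [← Category.assoc, MonObj.comp_mul, lift_fst, lift_snd] using h
  exact
    { one_hom := by
        have h := hΦhom' (1 : 𝟙_ (Over (Spec (S.residueField ξ))) ⟶ F.obj E₀) 1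
        rw [_root_.one_mul, right_eq_mul, Hom.one_def, Hom.one_def, toUnit_unique (toUnit (𝟙_ _)) (𝟙 _),
          Category.id_comp, Category.id_comp] at h
        exact h
      mul_hom := by
        have h := hΦhom
        rw [Hom.mul_def, lift_fst_snd, Category.id_comp] at h
        show μ[F.obj E₀] ≫ Φ₀ = (Φ₀ ⊗ₘ Φ₀) ≫ μ[E']
        rw [h, Hom.mul_def]
        congr 1 }

end Groth.ConstTorsor
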