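import Groth.Agent.SGA7.ConstPoints
import Groth.Agent.Pi1Tors.Points
import Groth.Agent.FlatMor2.Weighting.FlatLength
import Groth.Agent.Flatmor4.QuasiFiniteSplit
import Groth.Agent.UnramSepDeg.Criterion
import Groth.Agent.AlgSpBasic.LocPInst
import Mathlib.FieldTheory.IsAlgClosed.AlgebraicClosure

/-!
# Points of torsors under constant groups
-/

set_option autoImplicit false
set_option backward.isDefEq.respectTransparency false
universe u

open CategoryTheory CategoryTheory.Limits MonoidalCategory CartesianMonoidalCategory MonObj AlgebraicGeometry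

namespace Groth.ConstTorsor

open Groth.SGA7 Groth.Pi1Tors

variable {P : Scheme.{u}} {G X : Over P} [GrpObj G] (a : AlgGrp.Action G X)
  {Z : Type u} [Group Z] (e : G ≅ TwC.const P Z)

/-- The point of index `z`. -/
noncomputable def cst (T : Over P) (z : Z) : T ⟶ G := toUnit T ≫ TwC.pt P Z z ≫ e.inv

omit [Group Z] in
theorem comp_cst {T T' : Over P} (h : T' ⟶ T) (z : Z) : h ≫ cst e T z = cst e T' z := by
  rw [cst, cst, ← Category.assoc, comp_toUnit]

/-- Translation by an element of the constant group. -/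
noncomputable def tr (z : Z) : X ⟶ X := dot a (cst e X z) (𝟙 X)

omit [Group Z] in
theorem comp_tr {T : Over P} (x : T ⟶ X) (z : Z) : x ≫ tr a e z = dot a (cst e T z) x := by
  rw [tr, comp_dot, comp_cst, Category.comp_id]

variable {e} (he : TwC.IsConstGrp Z G e)
include he

theorem cst_mul (T : Over P) (z w : Z) : cst e T z * cst e T w = cst e T (z * w) := by
  refine ConstPoints.ix_ext (e := e) (funext fun t => ?_)
  rw [ConstPoints.ix_mul he]
  simp only [cst, ConstPoints.ix_pt]

theorem cst_one (T : Over P) : cst e T (1 : Z) = 1 := by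
  refine ConstPoints.ix_ext (e := e) (funext fun t => ?_)
  rw [ConstPoints.ix_one he]
  simp only [cst, ConstPoints.ix_pt]

theorem tr_tr (z w : Z) : tr a e w ≫ tr a e z = tr a e (z * w) := by
  rw [comp_tr, tr, ← mul_dot, cst_mul he, tr]

theorem tr_one : tr a e (1 : Z) = 𝟙 X := by rw [tr, cst_one he, one_dot]

theorem tr_inv (z : Z) : tr a e z ≫ tr a e z⁻¹ = 𝟙 X := by rw [tr_tr a he, inv_mul_cancel, tr_one a he]

omit he

omit [Group Z] in
/-- Two points on a connected test object differ by a translation. -/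
theorem exists_tr (ha : NonAbH1.IsPseudoTorsorSch a) {T : Over P} [Subsingleton T.left] [Nonempty T.left]
    (x y : T ⟶ X) : ∃ z : Z, y ≫ tr a e z = x := by
  obtain ⟨g, hg⟩ := exists_dot_eq a ha x y
  obtain ⟨t₀⟩ := ‹Nonempty T.left›
  refine ⟨ConstPoints.ix e g t₀, ?_⟩
  rw [comp_tr, ← hg]
  congr 1
  exact (ConstPoints.eq_pt' g _ fun t => by rw [Subsingleton.elim t t₀]).symm

omit [Group Z] in
theorem tr_inj (ha : NonAbH1.IsPseudoTorsorSch a) {T : Over P} [Nonempty T.left] (x : T ⟶ X) {z w : Z}
    (h : x ≫ tr a e z = x ≫ tr a e w) : z = w := by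
  obtain ⟨t₀⟩ := ‹Nonempty T.left›
  rw [comp_tr, comp_tr] at h
  have h' := congrArg (fun g => ConstPoints.ix e g t₀) (dot_cancel a ha h)
  simpa only [cst, ConstPoints.ix_pt] using h'

include he in
/-- The points of a torsor under a torsion free constant group have trivial residue extensions. -/
theorem surjective_residueFieldMap (ha : NonAbH1.IsPseudoTorsorSch a) (hZ : ∀ z : Z, IsOfFinOrder z → z = 1)
    [Etale X.hom] (x : X.left) : Function.Surjective (X.hom.residueFieldMap x).hom := by
  classical
  let p := X.hom x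
  have := Groth.AlgSpBasic.locallyQuasiFinite_of_formallyUnramified X.hom
  let _ := (X.hom.residueFieldMap x).hom.toAlgebra
  have := Groth.FlatMor2.isSeparable_of_unramified X.hom x
  have : Module.Finite (P.residueField p) (X.left.residueField x) :=
    Flatmor4.finite_residueFieldMap X.hom (X.hom.quasiFiniteAt x)
  let Ω := AlgebraicClosure (P.residueField p)
  let T : Over P := Over.mk (Spec.map (CommRingCat.ofHom (algebraMap (P.residueField p) Ω)) ≫ P.fromSpecResidueField p)
  have : Subsingleton T.left := inferInstanceAs (Subsingleton (Spec (CommRingCat.of Ω)))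
  have : Nonempty T.left := inferInstanceAs (Nonempty (Spec (CommRingCat.of Ω)))
  let pt : (X.left.residueField x →ₐ[P.residueField p] Ω) → (T ⟶ X) := fun φ =>
    Over.homMk (Spec.map (CommRingCat.ofHom φ.toRingHom) ≫ X.left.fromSpecResidueField x) (by
      show (Spec.map _ ≫ X.left.fromSpecResidueField x) ≫ X.hom = Spec.map _ ≫ P.fromSpecResidueField p
      rw [Category.assoc, ← Scheme.Hom.SpecMap_residueFieldMap_fromSpecResidueField, ← Spec.map_comp_assoc]
      congr 2
      exact CommRingCat.hom_ext φ.comp_algebraMap)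
  have hptinj : Function.Injective pt := fun φ ψ h =>
    AlgHom.coe_ringHom_injective (congrArg CommRingCat.Hom.hom
      (Flatmor4.specMap_fromSpecResidueField_inj (congrArg CommaMorphism.left h)))
  let jσ : (Ω ≃ₐ[P.residueField p] Ω) → (T ⟶ T) := fun σ =>
    Over.homMk (Spec.map (CommRingCat.ofHom σ.toAlgHom.toRingHom)) (by
      show Spec.map _ ≫ Spec.map _ ≫ P.fromSpecResidueField p = Spec.map _ ≫ P.fromSpecResidueField p
      rw [← Spec.map_comp_assoc]
      congr 2
      exact CommRingCat.hom_ext σ.toAlgHom.comp_algebraMap)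
  have hjσ : ∀ σ φ, jσ σ ≫ pt φ = pt (σ.toAlgHom.comp φ) := fun σ φ => Over.OverMorphism.ext (by
    show Spec.map _ ≫ Spec.map _ ≫ X.left.fromSpecResidueField x = Spec.map _ ≫ X.left.fromSpecResidueField x
    rw [← Spec.map_comp_assoc]
    rfl)
  have : Finite (X.left.residueField x →ₐ[P.residueField p] Ω) := inferInstance
  have hfix : ∀ (σ : Ω ≃ₐ[P.residueField p] Ω) (φ : X.left.residueField x →ₐ[P.residueField p] Ω),
      σ.toAlgHom.comp φ = φ := by
    intro σ φ
    obtain ⟨z, hz⟩ := exists_tr a (e := e) ha (jσ σ ≫ pt φ) (pt φ)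
    let ψ : ℕ → (X.left.residueField x →ₐ[P.residueField p] Ω) := fun k => (σ.toAlgHom.comp ·)^[k] φ
    have hψ : ∀ k, pt (ψ k) = pt φ ≫ tr a e (z ^ k) := fun k => by
      induction k with
      | zero => rw [pow_zero, tr_one a he, Category.comp_id]; rfl
      | succ k ih =>
        rw [show ψ (k + 1) = σ.toAlgHom.comp (ψ k) from Function.iterate_succ_apply' _ _ _, ← hjσ, ih,
          ← Category.assoc, ← hz, Category.assoc, tr_tr a he, pow_succ]
    obtain ⟨i, j, hij, hij'⟩ := Finite.exists_ne_map_eq_of_infinite ψ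
    have hz1 : z ^ i = z ^ j := tr_inj a ha (pt φ) (by rw [← hψ, ← hψ, hij'])
    have hfo : IsOfFinOrder z := by
      rw [isOfFinOrder_iff_pow_eq_one]
      rcases lt_or_gt_of_ne hij with h | h
      · refine ⟨j - i, by omega, ?_⟩
        rw [← mul_left_cancel_iff (a := z ^ i), ← pow_add, Nat.add_sub_cancel' h.le, hz1, _root_.mul_one]
      · refine ⟨i - j, by omega, ?_⟩
        rw [← mul_left_cancel_iff (a := z ^ j), ← pow_add, Nat.add_sub_cancel' h.le, hz1, _root_.mul_one]
    apply hptinj
    rw [← hjσ, ← hz, hZ z hfo, tr_one a he, Category.comp_id]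
  intro c
  let φ : X.left.residueField x →ₐ[P.residueField p] Ω := IsAlgClosed.lift
  have hsep : IsSeparable (P.residueField p) (φ c) := (Algebra.IsSeparable.isSeparable _ c).map φ φ.injective
  obtain ⟨b, hb⟩ := Groth.UnramSepDeg.mem_range_of_fixed (A := P.residueField p) (K := P.residueField p) (φ c)
    hsep.isIntegral hsep fun σ => AlgHom.congr_fun (hfix σ φ) c
  exact ⟨b, φ.injective ((φ.commutes b).trans hb)⟩

include he in
/-- Two points over the same point of the base differ by a translation. -/
theorem exists_tr_apply (ha : NonAbH1.IsPseudoTorsorSch a) (hZ : ∀ z : Z, IsOfFinOrder z → z = 1)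
    [Etale X.hom] (x y : X.left) (h : X.hom x = X.hom y) : ∃ z : Z, (tr a e z).left x = y := by
  let Ω := AlgebraicClosure (P.residueField (X.hom x))
  let T : Over P := Over.mk (Spec.map (CommRingCat.ofHom (algebraMap (P.residueField (X.hom x)) Ω)) ≫
    P.fromSpecResidueField (X.hom x))
  have : Subsingleton T.left := inferInstanceAs (Subsingleton (Spec (CommRingCat.of Ω)))
  have : Nonempty T.left := inferInstanceAs (Nonempty (Spec (CommRingCat.of Ω)))
  have key : ∀ w : X.left, X.hom w = X.hom x → ∃ q : T ⟶ X, ∀ t, q.left t = w := by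
    intro w hw
    let b : P.residueField (X.hom w) ≅ P.residueField (X.hom x) := P.residueFieldCongr hw
    obtain ⟨inv, hinv⟩ : ∃ inv₀ : X.left.residueField w ⟶ P.residueField (X.hom w), X.hom.residueFieldMap w ≫ inv₀ = 𝟙 _ := by
      have hbij : Function.Bijective (X.hom.residueFieldMap w).hom :=
        ⟨(X.hom.residueFieldMap w).hom.injective, surjective_residueFieldMap a he ha hZ w⟩
      exact ⟨CommRingCat.ofHom (RingEquiv.ofBijective _ hbij).symm.toRingHom,
        CommRingCat.hom_ext (RingHom.ext fun r => (RingEquiv.ofBijective _ hbij).symm_apply_apply r)⟩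
    refine ⟨Over.homMk (Spec.map (inv ≫ b.hom ≫ CommRingCat.ofHom (algebraMap (P.residueField (X.hom x)) Ω)) ≫
      X.left.fromSpecResidueField w) ?_, fun t => ?_⟩
    · show (Spec.map _ ≫ X.left.fromSpecResidueField w) ≫ X.hom = Spec.map _ ≫ P.fromSpecResidueField (X.hom x)
      rw [Category.assoc, ← Scheme.Hom.SpecMap_residueFieldMap_fromSpecResidueField, ← Spec.map_comp_assoc,
        reassoc_of% hinv, Spec.map_comp, Category.assoc, Scheme.residueFieldCongr_fromSpecResidueField]
    · exact Flatmor4.specMap_fromSpecResidueField_apply _ _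
  obtain ⟨qx, hqx⟩ := key x rfl
  obtain ⟨qy, hqy⟩ := key y h.symm
  obtain ⟨z, hz⟩ := exists_tr a (e := e) ha qy qx
  obtain ⟨t⟩ := ‹Nonempty T.left›
  refine ⟨z, ?_⟩
  rw [← hqx t, ← hqy t, ← hz, Over.comp_left, Scheme.Hom.comp_apply]

end Groth.ConstTorsor
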