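import Groth.Agent.ConstTorsor.Main
import Groth.Agent.S15351
import Groth.Agent.S1324
import Mathlib.AlgebraicGeometry.Geometrically.Connected

/-!
# Torsors under constant groups over smooth schemes with connected fibres and a section
-/

set_option autoImplicit false
set_option backward.isDefEq.respectTransparency false
universe u

open CategoryTheory CategoryTheory.Limits MonoidalCategory CartesianMonoidalCategory MonObj AlgebraicGeometry

namespace Groth.ConstTorsor

/-- The section components of a smooth quasi-separated morphism are open. -/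
theorem isOpen_sectionComponents {S X : Scheme.{u}} (f : X ⟶ S) [Smooth f] [QuasiSeparated f]
    (e : S ⟶ X) (he : e ≫ f = 𝟙 S) : IsOpen (MoreMor.sectionComponents f e) := by
  refine isOpen_iff_forall_mem_open.mpr fun x hx => ?_
  obtain ⟨V, hV, hxV, -⟩ := exists_isAffineOpen_mem_and_subset (x := f x) (U := ⊤) trivial
  have : IsAffine V := hV
  let f' := pullback.snd f V.ι
  let g' := pullback.fst f V.ι
  have : QuasiSeparatedSpace ↥(pullback f V.ι) := quasiSeparatedSpace_of_quasiSeparated f'
  let e' : (V : Scheme.{u}) ⟶ pullback f V.ι := pullback.lift (V.ι ≫ e) (𝟙 _)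
    (by rw [Category.assoc, he, Category.comp_id, Category.id_comp])
  have h := Groth.Agent.S1324.result f e he f' g' V.ι (IsPullback.of_hasPullback f V.ι) e'
    (pullback.lift_snd _ _ _) (pullback.lift_fst _ _ _)
  have hopen := Groth.Agent.S15351.result f' e' (pullback.lift_snd _ _ _)
  rw [h] at hopen
  refine ⟨g' '' (g' ⁻¹' MoreMor.sectionComponents f e), Set.image_preimage_subset _ _,
    g'.isOpenEmbedding.isOpenMap _ hopen, ?_⟩
  obtain ⟨x', hx', -⟩ := Scheme.Pullback.exists_preimage_pullback (f := f) (g := V.ι) x ⟨f x, hxV⟩ rfl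
  exact ⟨x', show g' x' ∈ _ from hx'.symm ▸ hx, hx'⟩

/-- If a composite has trivial residue extensions, so does the second map. -/
theorem surjective_residue_of_comp {F X P : Scheme.{u}} (a : F ⟶ X) (b : X ⟶ P) (c : F ⟶ P) (h : a ≫ b = c)
    (t : F) (hs : Function.Surjective (c.residueFieldMap t).hom) :
    Function.Surjective (b.residueFieldMap (a t)).hom := by
  subst h
  intro r
  obtain ⟨w, hw⟩ := hs ((a.residueFieldMap t).hom r)
  rw [Scheme.residueFieldMap_comp] at hw
  exact ⟨w, (a.residueFieldMap t).hom.injective hw⟩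

/-- Preimmersions have trivial residue extensions. -/
theorem surjective_residue_of_isPreimmersion {F P : Scheme.{u}} (c : F ⟶ P) [IsPreimmersion c] (t : F) :
    Function.Surjective (c.residueFieldMap t).hom := by
  have h : Function.Surjective (P.residue (c t) ≫ c.residueFieldMap t).hom := by
    rw [Scheme.residue_residueFieldMap, CommRingCat.hom_comp, RingHom.coe_comp]
    exact (F.residue_surjective t).comp (c.stalkMap_surjective t)
  rw [CommRingCat.hom_comp, RingHom.coe_comp] at h
  exact h.of_comp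

variable {P : Scheme.{u}} {G X : Over P} [GrpObj G] (a : AlgGrp.Action G X)
  {Z : Type u} [Group Z] {e : G ≅ TwC.const P Z} (he : TwC.IsConstGrp Z G e)

include he in
/-- Next to a rational point, all points are translates of it, and rational. -/
theorem exists_tr_of_rational (ha : NonAbH1.IsPseudoTorsorSch a) (y x : X.left)
    (hy : Function.Surjective (X.hom.residueFieldMap y).hom) (h : X.hom y = X.hom x) :
    ∃ z : Z, (tr a e z).left y = x ∧ Function.Surjective (X.hom.residueFieldMap x).hom := by
  let T : Over P := Over.mk (X.left.fromSpecResidueField x ≫ X.hom)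
  have : Subsingleton T.left := inferInstanceAs (Subsingleton (Spec (X.left.residueField x)))
  have : Nonempty T.left := inferInstanceAs (Nonempty (Spec (X.left.residueField x)))
  let qx : T ⟶ X := Over.homMk (X.left.fromSpecResidueField x) rfl
  have hbij : Function.Bijective (X.hom.residueFieldMap y).hom := ⟨(X.hom.residueFieldMap y).hom.injective, hy⟩
  let inv₀ : X.left.residueField y ⟶ P.residueField (X.hom y) :=
    CommRingCat.ofHom (RingEquiv.ofBijective _ hbij).symm.toRingHom
  have hinv : X.hom.residueFieldMap y ≫ inv₀ = 𝟙 _ :=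
    CommRingCat.hom_ext (RingHom.ext fun r => (RingEquiv.ofBijective _ hbij).symm_apply_apply r)
  let b : P.residueField (X.hom y) ≅ P.residueField (X.hom x) := P.residueFieldCongr h
  let qy : T ⟶ X := Over.homMk (Spec.map (inv₀ ≫ b.hom ≫ X.hom.residueFieldMap x) ≫
    X.left.fromSpecResidueField y) (by
      show (Spec.map _ ≫ X.left.fromSpecResidueField y) ≫ X.hom = X.left.fromSpecResidueField x ≫ X.hom
      rw [Category.assoc, ← Scheme.Hom.SpecMap_residueFieldMap_fromSpecResidueField, ← Spec.map_comp_assoc,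
        reassoc_of% hinv, Spec.map_comp, Category.assoc, Scheme.residueFieldCongr_fromSpecResidueField,
        Scheme.Hom.SpecMap_residueFieldMap_fromSpecResidueField])
  obtain ⟨z, hz⟩ := exists_tr a (e := e) ha qx qy
  obtain ⟨t⟩ := ‹Nonempty T.left›
  have hzx : (tr a e z).left y = x := by
    have := congrArg (fun k : T ⟶ X => k.left t) hz
    simp only [Over.comp_left, Scheme.Hom.comp_apply, qx, qy, Over.homMk_left,
      Scheme.fromSpecResidueField_apply] at this
    exact this.trans (X.left.fromSpecResidueField_apply x t)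
  refine ⟨z, hzx, ?_⟩
  have := surjective_residue_of_comp (tr a e z).left X.hom X.hom (Over.w _) y hy
  rw [hzx] at this
  exact this

include he in
/-- The section components of a torsor with trivial fibres are a copy of the base. -/
theorem fibres_section {S : Scheme.{u}} (p : P ⟶ S) [GeometricallyConnected p]
    (ha : NonAbH1.IsPseudoTorsorSch a) [Etale X.hom] [IsSeparated X.hom]
    (es : S ⟶ P) (hes : es ≫ p = 𝟙 S) (e' : S ⟶ X.left) (he' : e' ≫ X.hom = es)
    (hf : ∀ s : S, NonAbH1.HasSectionOver X (pullback.fst p (S.fromSpecResidueField s))) (q : P) :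
    (∀ x : X.left, X.hom x = q → Function.Surjective (X.hom.residueFieldMap x).hom) ∧
      ∃! x : X.left, x ∈ MoreMor.sectionComponents (X.hom ≫ p) e' ∧ X.hom x = q := by
  let s := p q
  let ιF := pullback.fst p (S.fromSpecResidueField s)
  obtain ⟨σ, hσ⟩ := hf s
  have hr : Set.range ιF = p ⁻¹' {s} := p.range_fiberι s
  have : ConnectedSpace ↥(pullback p (S.fromSpecResidueField s)) :=
    inferInstanceAs (ConnectedSpace (p.fiber s))
  have hrat : ∀ t, Function.Surjective (X.hom.residueFieldMap (σ t)).hom := fun t => by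
    refine surjective_residue_of_comp σ X.hom ιF hσ t ?_
    exact surjective_residue_of_isPreimmersion ιF t
  have hσ' : ∀ t, X.hom (σ t) = ιF t := fun t => by rw [← Scheme.Hom.comp_apply, hσ]
  obtain ⟨f₁, hf₁⟩ := hr.ge (show q ∈ p ⁻¹' {s} from rfl)
  obtain ⟨f₀, hf₀⟩ := hr.ge (show es s ∈ p ⁻¹' {s} by
    show p (es s) = s
    rw [← Scheme.Hom.comp_apply, hes]; rfl)
  obtain ⟨z, hz, -⟩ := exists_tr_of_rational a he ha (σ f₀) (e' s) (hrat f₀)
    (by rw [hσ', hf₀, ← he', Scheme.Hom.comp_apply])
  let τ := σ ≫ (tr a e z).left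
  have hτ : τ ≫ X.hom = ιF := by rw [Category.assoc, Over.w, hσ]
  have hτ' : ∀ t, X.hom (τ t) = ιF t := fun t => by rw [← Scheme.Hom.comp_apply, hτ]
  refine ⟨fun x hx => (exists_tr_of_rational a he ha (σ f₁) x (hrat f₁) (by rw [hσ', hf₁, hx])).choose_spec.2, ?_⟩
  have hfib : ∀ t, (X.hom ≫ p) (τ t) = s := fun t => by
    rw [Scheme.Hom.comp_apply, hτ']
    exact hr.le ⟨t, rfl⟩
  have hsub : Set.range τ ⊆ connectedComponentIn ((X.hom ≫ p) ⁻¹' {s}) (e' s) := by
    refine (isPreconnected_range τ.continuous).subset_connectedComponentIn ⟨f₀, ?_⟩ ?_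
    · show (σ ≫ (tr a e z).left) f₀ = e' s
      rw [Scheme.Hom.comp_apply, hz]
    · rintro _ ⟨t, rfl⟩; exact hfib t
  have hsup : connectedComponentIn ((X.hom ≫ p) ⁻¹' {s}) (e' s) ⊆ Set.range τ := by
    let pX := pullback.snd X.hom ιF
    let j := pullback.fst X.hom ιF
    let sec : pullback p (S.fromSpecResidueField s) ⟶ pullback X.hom ιF :=
      pullback.lift τ (𝟙 _) (by rw [hτ, Category.id_comp])
    have hsec : sec ≫ pX = 𝟙 _ := pullback.lift_snd _ _ _
    have : Etale (sec ≫ pX) := hsec.symm ▸ inferInstance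
    have : Etale sec := MorphismProperty.of_postcomp (W := @Etale) (W' := @Etale) sec pX inferInstance inferInstance
    have : IsClosedImmersion (sec ≫ pX) := hsec.symm ▸ inferInstance
    have : IsClosedImmersion sec := IsClosedImmersion.of_comp sec pX
    have hclopen : IsClopen (Set.range sec) :=
      ⟨sec.isClosedEmbedding.isClosed_range, sec.isOpenMap.isOpen_range⟩
    intro x hx
    have hC : connectedComponentIn ((X.hom ≫ p) ⁻¹' {s}) (e' s) ⊆ Set.range j := by
      refine (connectedComponentIn_subset _ _).trans ?_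
      rw [Scheme.Pullback.range_fst, hr]
      intro w hw
      exact hw
    have hpre : _root_.IsPreconnected (j ⁻¹' connectedComponentIn ((X.hom ≫ p) ⁻¹' {s}) (e' s)) := by
      rw [← j.isEmbedding.isInducing.isPreconnected_image, Set.image_preimage_eq_of_subset hC]
      exact isPreconnected_connectedComponentIn
    have hjs : ∀ t, j (sec t) = τ t := fun t => by rw [← Scheme.Hom.comp_apply, pullback.lift_fst]
    obtain ⟨w, rfl⟩ := hC hx
    obtain ⟨t, rfl⟩ := hpre.subset_isClopen hclopen
      ⟨sec f₀, show j (sec f₀) ∈ _ from (hjs f₀) ▸ hsub ⟨f₀, rfl⟩, ⟨f₀, rfl⟩⟩ hx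
    exact ⟨t, (hjs t).symm⟩
  refine ⟨τ f₁, ⟨?_, (hτ' f₁).trans hf₁⟩, ?_⟩
  · show τ f₁ ∈ connectedComponentIn ((X.hom ≫ p) ⁻¹' {(X.hom ≫ p) (τ f₁)}) (e' ((X.hom ≫ p) (τ f₁)))
    rw [hfib]
    exact hsub ⟨f₁, rfl⟩
  · rintro x ⟨hx, hxq⟩
    have hxs : (X.hom ≫ p) x = s := by rw [Scheme.Hom.comp_apply, hxq]
    change x ∈ connectedComponentIn ((X.hom ≫ p) ⁻¹' {(X.hom ≫ p) x}) (e' ((X.hom ≫ p) x)) at hx
    rw [hxs] at hx
    obtain ⟨t, rfl⟩ := hsup hx
    rw [hτ', ← hf₁] at hxq
    rw [ιF.isEmbedding.injective hxq]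

include he in
/-- Triviality can be tested on the fibres, and trivialisations are fixed by their value on the section. -/
theorem existsUnique_section {S : Scheme.{u}} (p : P ⟶ S) [Smooth p] [QuasiSeparated p] [GeometricallyConnected p]
    (ha : NonAbH1.IsPseudoTorsorSch a) (hX : NonAbH1.IsLocallyTrivialFor Scheme.fppfPrecoverage X)
    (es : S ⟶ P) (hes : es ≫ p = 𝟙 S) (e' : S ⟶ X.left) (he' : e' ≫ X.hom = es)
    (hf : ∀ s : S, NonAbH1.HasSectionOver X (pullback.fst p (S.fromSpecResidueField s))) :
    ∃! g : P ⟶ X.left, g ≫ X.hom = 𝟙 P ∧ es ≫ g = e' := by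
  have : Etale X.hom := Groth.NeronArea.property_of_isLocallyTrivial a ha @Etale hX (etale_const e)
  have : MorphismProperty.DescendsAlong (@IsSeparated : MorphismProperty Scheme.{u})
      (@Surjective ⊓ @Flat ⊓ @QuasiCompact : MorphismProperty Scheme.{u}) :=
    Groth.EtaleBase.descendsAlong_isSeparated
  have : MorphismProperty.DescendsAlong (@IsSeparated : MorphismProperty Scheme.{u})
      (@Surjective ⊓ @Flat ⊓ @LocallyOfFinitePresentation : MorphismProperty Scheme.{u}) := by infer_instance
  have : MorphismProperty.IsLocalAtTarget (@IsSeparated : MorphismProperty Scheme.{u}) Scheme.fppfPrecoverage :=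
    Groth.AlgSpBasic.isLocalAtTarget_fppf _
  have : IsSeparated X.hom :=
    Groth.NeronArea.property_of_isLocallyTrivial a ha @IsSeparated hX (isSeparated_constGrp e)
  have he'f : e' ≫ X.hom ≫ p = 𝟙 S := by rw [reassoc_of% he', hes]
  let D : X.left.Opens := ⟨_, isOpen_sectionComponents (X.hom ≫ p) e' he'f⟩
  have key := fibres_section a he p ha es hes e' he' hf
  let h : (D : Scheme.{u}) ⟶ P := D.ι ≫ X.hom
  have hinj : Function.Injective h := fun x y hxy =>
    Subtype.ext ((key (h x)).2.unique ⟨x.2, rfl⟩ ⟨y.2, hxy.symm⟩)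
  have : UniversallyInjective h := ((tfae_universallyInjective h).out 0 1).mpr (by
    intro K hK g₁ g₂ hg
    let t : ↥(Spec (CommRingCat.of K)) := IsLocalRing.closedPoint K
    have h12 : g₁ t = g₂ t := hinj (by
      rw [← Scheme.Hom.comp_apply, ← Scheme.Hom.comp_apply]
      exact congrArg (fun k : Spec (CommRingCat.of K) ⟶ P => k t) hg)
    rw [← cancel_mono D.ι]
    refine specField_eq X.hom _ _ t (g₁ t).1 rfl (congrArg Subtype.val h12.symm)
      ((key (h (g₁ t))).1 _ rfl) ?_
    simpa [h] using hg)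
  have hsurj : Surjective h := ⟨fun q => by
    obtain ⟨x, ⟨hx, hxq⟩, -⟩ := (key q).2
    exact ⟨⟨x, hx⟩, hxq⟩⟩
  have : IsIso (pullback.diagonal h) := by
    have hs : Surjective (pullback.diagonal h) := (UniversallyInjective.iff_diagonal h).mp inferInstance
    have : Epi (pullback.diagonal h).base := (TopCat.epi_iff_surjective _).mpr hs.1
    exact IsOpenImmersion.isIso (pullback.diagonal h)
  have : Mono h := (pullback.isIso_diagonal_iff h).mp inferInstance
  have : IsOpenImmersion h := IsOpenImmersion.of_flat_of_mono h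
  have : Epi h.base := (TopCat.epi_iff_surjective _).mpr h.surjective
  have : IsIso h := IsOpenImmersion.isIso h
  have hle : Set.range e' ⊆ Set.range D.ι := by
    rintro _ ⟨s, rfl⟩
    rw [Scheme.Opens.range_ι]
    show e' s ∈ connectedComponentIn ((X.hom ≫ p) ⁻¹' {(X.hom ≫ p) (e' s)}) (e' ((X.hom ≫ p) (e' s)))
    have : (X.hom ≫ p) (e' s) = s := by rw [← Scheme.Hom.comp_apply, he'f]; rfl
    rw [this]
    exact mem_connectedComponentIn this
  refine ⟨inv h ≫ D.ι, ⟨by rw [Category.assoc]; exact IsIso.inv_hom_id h, ?_⟩, ?_⟩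
  · have hl := IsOpenImmersion.lift_fac D.ι e' hle
    have : IsOpenImmersion.lift D.ι e' hle ≫ h = es := by rw [← Category.assoc, hl, he']
    rw [← this, Category.assoc, IsIso.hom_inv_id_assoc, hl]
  · rintro g ⟨hg, hge⟩
    have hgD : Set.range g ⊆ Set.range D.ι := by
      rintro _ ⟨q, rfl⟩
      rw [Scheme.Opens.range_ι]
      show g q ∈ connectedComponentIn ((X.hom ≫ p) ⁻¹' {(X.hom ≫ p) (g q)}) (e' ((X.hom ≫ p) (g q)))
      have hgq : ∀ r, (X.hom ≫ p) (g r) = p r := fun r => by
        rw [← Scheme.Hom.comp_apply, reassoc_of% hg]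
      rw [hgq]
      refine ((p.isConnected_preimage_singleton (p q)).isPreconnected.image g
        g.continuous.continuousOn).subset_connectedComponentIn ?_ ?_ ⟨q, rfl, rfl⟩
      · refine ⟨es (p q), ?_, ?_⟩
        · show p (es (p q)) = p q
          rw [← Scheme.Hom.comp_apply, hes]; rfl
        · rw [← hge]; rfl
      · rintro _ ⟨r, hr, rfl⟩
        exact (hgq r).trans hr
    have hl := IsOpenImmersion.lift_fac D.ι g hgD
    have : IsOpenImmersion.lift D.ι g hgD ≫ h = 𝟙 P := by rw [← Category.assoc, hl, hg]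
    rw [← hl, IsIso.eq_inv_of_inv_hom_id this]

end Groth.ConstTorsor
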