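import Groth.Agent.ConstTorsor.Components
import Groth.Agent.ConstTorsor.FibrePoints
import Groth.Agent.NeronArea.MappingDescent
import Groth.Agent.AlgSpBasic.Topology
import Groth.Agent.Reductive2.HomTwConst
import Groth.Agent.EtaleBase.FpqcDescent
import Mathlib.AlgebraicGeometry.Morphisms.FlatMono
import Mathlib.AlgebraicGeometry.Morphisms.UniversallyOpen

/-!
# Torsors under constant torsion free groups over geometrically unibranch bases
-/

set_option autoImplicit false
set_option backward.isDefEq.respectTransparency false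
universe u

open CategoryTheory CategoryTheory.Limits MonoidalCategory CartesianMonoidalCategory MonObj AlgebraicGeometry

namespace Groth.ConstTorsor

/-- A field valued point is determined by its image in the base when the residue extension is trivial. -/
theorem specField_eq {X P : Scheme.{u}} (π : X ⟶ P) {K : Type u} [Field K] (a b : Spec (CommRingCat.of K) ⟶ X)
    (t : ↥(Spec (CommRingCat.of K))) (x : X) (hax : a t = x) (hbx : b t = x)
    (hs : Function.Surjective (π.residueFieldMap x).hom) (h : a ≫ π = b ≫ π) : a = b := by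
  obtain ⟨⟨xa, φa⟩, rfl⟩ := (Scheme.SpecToEquivOfField K X).symm.surjective a
  obtain ⟨⟨xb, φb⟩, rfl⟩ := (Scheme.SpecToEquivOfField K X).symm.surjective b
  replace hax : (Spec.map φa ≫ X.fromSpecResidueField xa) t = x := hax
  replace hbx : (Spec.map φb ≫ X.fromSpecResidueField xb) t = x := hbx
  rw [Flatmor4.specMap_fromSpecResidueField_apply] at hax hbx
  subst hax; subst hbx
  replace h : (Spec.map φa ≫ X.fromSpecResidueField xb) ≫ π = (Spec.map φb ≫ X.fromSpecResidueField xb) ≫ π := h
  simp only [Category.assoc, ← Scheme.Hom.SpecMap_residueFieldMap_fromSpecResidueField, ← Spec.map_comp_assoc] at h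
  have h' := Flatmor4.specMap_fromSpecResidueField_inj h
  have : φa = φb := CommRingCat.hom_ext (RingHom.ext fun r => by
    obtain ⟨r', rfl⟩ := hs r
    exact congrArg (fun k => k.hom r') h')
  subst this
  rfl

variable {P : Scheme.{u}} {G X : Over P} [GrpObj G] (a : AlgGrp.Action G X)
  {Z : Type u} [Group Z] (e : G ≅ TwC.const P Z)

omit [GrpObj G] [Group Z] in
include e in
theorem etale_const : Etale G.hom := by
  have : Etale (TwC.const P Z).hom := IsZariskiLocalAtSource.sigmaDesc fun _ => inferInstance
  rw [← Over.w e.hom]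
  infer_instance

omit [GrpObj G] [Group Z] in
include e in
theorem isSeparated_constGrp : IsSeparated G.hom := by
  have : IsSeparated (TwC.const P Z).hom := Groth.Reductive2.HomTwConst.isSeparated_const P Z
  rw [← Over.w e.hom]
  infer_instance

variable {e} (he : TwC.IsConstGrp Z G e)
include he

/-- Sections over one component of the base. -/
theorem exists_section_component {S : Scheme.{u}} (f : P ⟶ S) [Smooth f] [IrreducibleSpace S]
    (hS : ∀ s : S, CAlg2.IsGeomUnibranch (S.presheaf.stalk s))
    (ha : NonAbH1.IsPseudoTorsorSch a) (hZ : ∀ z : Z, IsOfFinOrder z → z = 1)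
    [Etale X.hom] [IsSeparated X.hom] [Surjective X.hom]
    (Q : P.Opens) (hQ : (Q : Set P) ∈ irreducibleComponents (P : Type u)) :
    ∃ s : (Q : Scheme.{u}) ⟶ X.left, s ≫ X.hom = Q.ι := by
  have : IrreducibleSpace (Q : Scheme.{u}) := Subtype.irreducibleSpace hQ.1
  let W : X.left.Opens := X.hom ⁻¹ᵁ Q
  let g : (W : Scheme.{u}) ⟶ Q := X.hom ∣_ Q
  have hg : ∀ w : W, (g w).1 = X.hom w.1 := fun w => by
    have := congrArg (fun k : (W : Scheme.{u}) ⟶ P => k w) (morphismRestrict_ι X.hom Q)
    exact this
  have : Etale g := IsZariskiLocalAtTarget.restrict ‹_› Q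
  have : IsSeparated g := IsZariskiLocalAtTarget.restrict ‹_› Q
  have hY : ∀ y : Q, CAlg2.IsGeomUnibranch ((Q : Scheme.{u}).presheaf.stalk y) := fun y =>
    (Groth.Hensel1.isGeomUnibranch_stalk_iff_of_smooth (Q.ι ≫ f) y).mpr (hS _)
  obtain ⟨-, hcomp⟩ := Groth.EtaleBaseTwo.components_of_etale_over_geomUnibranch g hY
  obtain ⟨x₀, hx₀⟩ := X.hom.surjective (genericPoint (Q : Scheme.{u})).1
  let w₀ : W := ⟨x₀, show X.hom x₀ ∈ Q from hx₀ ▸ (genericPoint (Q : Scheme.{u})).2⟩
  have hw₀ : g w₀ = genericPoint (Q : Scheme.{u}) := Subtype.ext ((hg w₀).trans hx₀)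
  have hC := irreducibleComponent_mem_irreducibleComponents (w₀ : (W : Type u))
  let C : (W : Scheme.{u}).Opens := ⟨irreducibleComponent w₀, (hcomp _ hC).1⟩
  let h : (C : Scheme.{u}) ⟶ Q := C.ι ≫ g
  have : Etale h := inferInstance
  have : IsSeparated h := inferInstance
  have huniq : ∀ c : C, h c = genericPoint (Q : Scheme.{u}) → c.1 = w₀ := fun c hc =>
    (hcomp _ hC).2.unique ⟨c.2, hc⟩ ⟨mem_irreducibleComponent, hw₀⟩
  have : Surjective h := by
    refine ⟨fun q => ?_⟩
    obtain ⟨x, hx⟩ := X.hom.surjective q.1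
    let w : W := ⟨x, show X.hom x ∈ Q from hx ▸ q.2⟩
    have hC' := irreducibleComponent_mem_irreducibleComponents (w : (W : Type u))
    obtain ⟨ζ, hζ⟩ := QuasiSober.sober (α := (W : Scheme.{u})) hC'.1 (isClosed_of_mem_irreducibleComponents _ hC')
    have hζg : g ζ = genericPoint (Q : Scheme.{u}) := Groth.EtaleBaseTwo.map_genericPoint_of_flat g hC' hζ
    have hsp : ζ.1 ⤳ x := (hζ.specializes mem_irreducibleComponent).map continuous_subtype_val
    obtain ⟨z, hz⟩ := exists_tr_apply a he ha hZ ζ.1 x₀ (by rw [← hg ζ, hζg, hx₀])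
    have hw : ∀ y : X.left, X.hom ((tr a e z).left y) = X.hom y := fun y => by
      rw [← Scheme.Hom.comp_apply, Over.w]
    let w' : W := ⟨(tr a e z).left x, show X.hom _ ∈ Q from (hw x).symm ▸ (hx ▸ q.2)⟩
    have hsp' : (w₀ : W) ⤳ w' := by
      rw [subtype_specializes_iff]
      have := hsp.map (tr a e z).left.continuous
      rw [hz] at this
      exact this
    exact ⟨⟨w', hsp'.mem_closed (isClosed_of_mem_irreducibleComponents _ hC) mem_irreducibleComponent⟩,
      Subtype.ext (((hg w').trans (hw x)).trans hx)⟩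
  have : UniversallyInjective h := by
    rw [UniversallyInjective.iff_diagonal]
    refine ⟨fun v => ?_⟩
    let r := pullback.fst h h ≫ h
    have : Flat r := inferInstance
    obtain ⟨v', hv'v, hv'⟩ := Flat.generalizingMap r ((genericPoint_specializes (r v)))
    let p₁ := pullback.fst h h
    let p₂ := pullback.snd h h
    have h1 : (p₁ v').1 = w₀ := huniq _ (by rw [← Scheme.Hom.comp_apply]; exact hv')
    have h2 : (p₂ v').1 = w₀ := huniq _ (by
      rw [← Scheme.Hom.comp_apply, ← pullback.condition]; exact hv')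
    let i : (C : Scheme.{u}) ⟶ X.left := C.ι ≫ W.ι
    have hi : i ≫ X.hom = h ≫ Q.ι := by
      rw [Category.assoc, Category.assoc, morphismRestrict_ι]
    let t : Spec ((pullback h h).residueField v') := IsLocalRing.closedPoint ((pullback h h).residueField v')
    have heq : (pullback h h).fromSpecResidueField v' ≫ p₁ = (pullback h h).fromSpecResidueField v' ≫ p₂ := by
      rw [← cancel_mono i]
      refine specField_eq X.hom _ _ t x₀ ?_ ?_ (surjective_residueFieldMap a he ha hZ x₀) ?_
      · show ((p₁ ((pullback h h).fromSpecResidueField v' t)).1).1 = x₀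
        rw [Scheme.fromSpecResidueField_apply, h1]
      · show ((p₂ ((pullback h h).fromSpecResidueField v' t)).1).1 = x₀
        rw [Scheme.fromSpecResidueField_apply, h2]
      · simp only [Category.assoc, hi]
        rw [← Category.assoc p₁, pullback.condition, Category.assoc]
    have hv'mem : v' ∈ Set.range (pullback.diagonal h) := by
      refine ⟨p₁ ((pullback h h).fromSpecResidueField v' t), ?_⟩
      rw [← Scheme.Hom.comp_apply, ← Scheme.Hom.comp_apply]
      have : (pullback h h).fromSpecResidueField v' ≫ p₁ ≫ pullback.diagonal h =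
          (pullback h h).fromSpecResidueField v' := by
        refine pullback.hom_ext ?_ ?_
        · simp [p₁]
        · simpa [p₁, p₂] using heq
      rw [this, Scheme.fromSpecResidueField_apply]
    exact hv'v.mem_closed (pullback.diagonal h).isClosedEmbedding.isClosed_range hv'mem
  have : IsOpenImmersion h := by
    have : IsIso (pullback.diagonal h) := by
      have hs : Surjective (pullback.diagonal h) := (UniversallyInjective.iff_diagonal h).mp inferInstance
      have : Epi (pullback.diagonal h).base := (TopCat.epi_iff_surjective _).mpr hs.1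
      exact IsOpenImmersion.isIso (pullback.diagonal h)
    have : Mono h := (pullback.isIso_diagonal_iff h).mp inferInstance
    exact IsOpenImmersion.of_flat_of_mono h
  have : Epi h.base := (TopCat.epi_iff_surjective _).mpr h.surjective
  have : IsIso h := IsOpenImmersion.isIso h
  refine ⟨inv h ≫ C.ι ≫ W.ι, ?_⟩
  rw [Category.assoc, Category.assoc, ← morphismRestrict_ι X.hom Q, IsIso.inv_comp_eq, Category.assoc]

/-- Torsors under constant torsion free groups over schemes smooth over an irreducible geometrically
unibranch base are trivial. -/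
theorem hasSectionOver {S : Scheme.{u}} (f : P ⟶ S) [Smooth f] [IrreducibleSpace S]
    (hS : ∀ s : S, CAlg2.IsGeomUnibranch (S.presheaf.stalk s))
    (ha : NonAbH1.IsPseudoTorsorSch a) (hX : NonAbH1.IsLocallyTrivialFor Scheme.fppfPrecoverage X)
    (hZ : ∀ z : Z, IsOfFinOrder z → z = 1) : NonAbH1.HasSectionOver X (𝟙 P) := by
  have : Etale X.hom := Groth.NeronArea.property_of_isLocallyTrivial a ha @Etale hX (etale_const e)
  have : MorphismProperty.DescendsAlong (@IsSeparated : MorphismProperty Scheme.{u})
      (@Surjective ⊓ @Flat ⊓ @QuasiCompact : MorphismProperty Scheme.{u}) :=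
    Groth.EtaleBase.descendsAlong_isSeparated
  have : MorphismProperty.DescendsAlong (@IsSeparated : MorphismProperty Scheme.{u})
      (@Surjective ⊓ @Flat ⊓ @LocallyOfFinitePresentation : MorphismProperty Scheme.{u}) := by infer_instance
  have : MorphismProperty.IsLocalAtTarget (@IsSeparated : MorphismProperty Scheme.{u}) Scheme.fppfPrecoverage :=
    Groth.AlgSpBasic.isLocalAtTarget_fppf _
  have : IsSeparated X.hom :=
    Groth.NeronArea.property_of_isLocallyTrivial a ha @IsSeparated hX (isSeparated_constGrp e)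
  have : Surjective X.hom := Groth.NeronArea.surjective_of_isLocallyTrivial hX
  let I := ↥(irreducibleComponents (P : Type u))
  let Q : I → P.Opens := fun i => ⟨i.1, isOpen_component f hS i.2⟩
  have hQ : TopologicalSpace.IsOpenCover Q := by
    refine TopologicalSpace.IsOpenCover.mk (top_unique fun p _ => ?_)
    exact TopologicalSpace.Opens.mem_iSup.mpr
      ⟨⟨_, irreducibleComponent_mem_irreducibleComponents p⟩, mem_irreducibleComponent⟩
  let 𝒰 : P.OpenCover := P.openCoverOfIsOpenCover Q hQ
  choose s hs using fun i : I => exists_section_component a he f hS ha hZ (Q i) i.2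
  have hcompat : ∀ i j : I, pullback.fst (𝒰.f i) (𝒰.f j) ≫ s i = pullback.snd (𝒰.f i) (𝒰.f j) ≫ s j := by
    intro i j
    by_cases hij : i = j
    · subst hij
      have : pullback.fst (𝒰.f i) (𝒰.f i) = pullback.snd (𝒰.f i) (𝒰.f i) := by
        rw [← cancel_mono (𝒰.f i), pullback.condition]
      rw [this]
    · have : IsEmpty ↥(pullback (𝒰.f i) (𝒰.f j)) := ⟨fun v => hij (Subtype.ext ((existsUnique_component f hS
        ((𝒰.f i) (pullback.fst (𝒰.f i) (𝒰.f j) v))).unique ⟨i.2, (pullback.fst (𝒰.f i) (𝒰.f j) v).2⟩ ⟨j.2, by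
          rw [← Scheme.Hom.comp_apply, pullback.condition, Scheme.Hom.comp_apply]
          exact (pullback.snd (𝒰.f i) (𝒰.f j) v).2⟩))⟩
      exact isInitialOfIsEmpty.hom_ext _ _
  refine ⟨𝒰.glueMorphisms s hcompat, 𝒰.hom_ext _ _ fun i => ?_⟩
  rw [Scheme.Cover.ι_glueMorphisms_assoc, Category.comp_id]
  exact hs i

end Groth.ConstTorsor
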